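import Cfsg.Agent.H899.Pt.RowOm
import Cfsg.Agent.H884.RowAllD
import Cfsg.Agent.H953.Cyc.N9d

/-!
# `NoFac (Ω_2m+1(q))`, `m ≥ 6` even (helper899, S3679)
-/

set_option autoImplicit false

namespace Cfsg.Agent.H899.Asm

open Cfsg Cfsg.Agent.OrdDiv Cfsg.Agent.H899.CG

theorem noFac_oodd (tab : OrderTable.{0}) (hK : H884.Row.KnownS) {F : Type} [Field F] [Fintype F] {m : ℕ} (hm : 6 ≤ m)
    (hme : Even m) (hodd : Odd (Fintype.card F)) : NoFac (POmega F (quadFormOdd m F)) := by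
  intro S _ _ hS hSna A M l hM hF
  rcases H884.Row.row_oodd tab hK (m := m) (by omega) hodd (fun h => by omega) hM.1 with h | ⟨-, v, hv, hMv, hP⟩ | ⟨-, h⟩
  · exact hF.not_iGap h
  · exact Pt.not_fac_odd (by omega) hme hodd hS hSna hv hMv hP hF
  · exact Pt.not_fac_oodd_as hodd hm hme hS hSna h.as hF

/-- `Ω_9(q)` -/
theorem noFac_oodd_four (tab : OrderTable.{0}) (hK : H884.Row.KnownS) {F : Type} [Field F] [Fintype F]
    (hodd : Odd (Fintype.card F)) : NoFac (POmega F (quadFormOdd 4 F)) := by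
  intro S _ _ hS hSna A M l hM hF
  rcases H884.Row.row_oodd tab hK (m := 4) (by omega) hodd (fun h => by omega) hM.1 with h | ⟨-, v, hv, hMv, hP⟩ | ⟨-, h⟩
  · exact hF.not_iGap h
  · exact Pt.not_fac_odd (by omega) (by decide) hodd hS hSna hv hMv hP hF
  · exact H953.N9.not_fac_o9 hodd hS hSna h.as hF

/-- all `m ≥ 4` even -/
theorem all_oodd (tab : OrderTable.{0}) (hK : H884.Row.KnownS) (F : Type) [Field F] [Fintype F] (m : ℕ) (hm : 4 ≤ m)
    (hme : Even m) (hodd : Odd (Fintype.card F)) : NoFac (POmega F (quadFormOdd m F)) := by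
  by_cases h6 : 6 ≤ m
  · exact noFac_oodd tab hK h6 hme hodd
  · obtain rfl : m = 4 := by
      obtain ⟨k, hk⟩ := hme
      omega
    exact noFac_oodd_four tab hK hodd

end Cfsg.Agent.H899.Asm
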