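import Cfsg.Agent.H899.Pt.RowOm
import Cfsg.Agent.H884.RowAllD
import Cfsg.Agent.H953.Cyc.O8e
import Cfsg.Agent.H953.Cyc.O8n
import Cfsg.Agent.H946.DK.P3

/-!
# `NoFac (PΩ⁺_2m(q))`, `m ≥ 4` even (helper899, S3679)
-/

set_option autoImplicit false

namespace Cfsg.Agent.H899.Asm

open Cfsg Cfsg.Agent.OrdDiv Cfsg.Agent.H899.CG

theorem noFac_oplus (tab : OrderTable.{0}) (hK : H884.Row.KnownS) {F : Type} [Field F] [Fintype F] {m : ℕ} (hm : 6 ≤ m)
    (hme : Even m) (hexc : ¬ (Fintype.card F = 2 ∧ m = 6)) : NoFac (POmega F (quadFormPlus m F)) := by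
  intro S _ _ hS hSna A M l hM hF
  rcases H884.Row.row_oplus tab hK (m := m) (by omega) hM.1 with h | ⟨-, v, hv, hMv⟩ | ⟨-, h⟩
  · exact hF.not_iGap h
  · exact Pt.not_fac_plus (by omega) hme hexc hS hSna hv hMv hF
  · exact Pt.not_fac_oplus_as hm hme hexc hS hSna (h.imp (fun h => h.as) (fun h => h.as)) hF

/-- `PΩ⁺_8(q)`, `q ≥ 4` -/
theorem noFac_oplus_four (tab : OrderTable.{0}) (hK : H884.Row.KnownS) {F : Type} [Field F] [Fintype F]
    (hq : 4 ≤ Fintype.card F) : NoFac (POmega F (quadFormPlus 4 F)) := by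
  intro S _ _ hS hSna A M l hM hF
  rcases H884.Row.row_oplus4 tab hK (F := F) (by omega) hM.1 with h | ⟨v, hv, hMv⟩ | ⟨g, h, hg⟩ | ⟨g, h, hg⟩
  · exact hF.not_iGap h
  · exact Pt.not_fac_plus le_rfl (by decide) (fun h => by omega) hS hSna hv hMv hF
  · rcases hg with ⟨h3, -⟩ | ⟨h4, rfl⟩
    · omega
    · exact H953.O8.not_fac_of_as hS hSna h.as (Or.inr (Or.inr (Or.inr ⟨h4, rfl⟩))) hF
  · rcases hg with rfl | rfl | rfl | rfl | ⟨h4, rfl⟩
    · exact H953.O8.not_fac_of_as7 hS hSna h.as (Or.inl rfl) hq hF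
    · exact H953.O8.not_fac_of_as7 hS hSna h.as (Or.inr rfl) hq hF
    · exact H953.O8.not_fac_of_as hS hSna h.as (Or.inl rfl) hF
    · exact H953.O8.not_fac_of_as hS hSna h.as (Or.inr (Or.inl rfl)) hF
    · exact H953.O8.not_fac_of_as hS hSna h.as (Or.inr (Or.inr (Or.inl ⟨h4, rfl⟩))) hF

/-- `PΩ⁺_8(3)` -/
theorem noFac_oplus_three (tab : OrderTable.{0}) (hK : H884.Row.KnownS) {F : Type} [Field F] [Fintype F]
    (hq : Fintype.card F = 3) : NoFac (POmega F (quadFormPlus 4 F)) := by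
  intro S _ _ hS hSna A M l hM hF
  rcases H884.Row.row_oplus4 tab hK (F := F) (by omega) hM.1 with h | ⟨v, hv, hMv⟩ | ⟨g, h, hg⟩ | ⟨g, h, hg⟩
  · exact hF.not_iGap h
  · exact Pt.not_fac_plus le_rfl (by decide) (fun h => by omega) hS hSna hv hMv hF
  · rcases hg with ⟨-, h1 | h1 | h1⟩ | ⟨h4, -⟩
    · exact H946.DK.P3.not_fac_three hq hS hSna h.as (by tauto) hF
    · exact H946.DK.P3.not_fac_three hq hS hSna h.as (by tauto) hF
    · exact H946.DK.P3.not_fac_three hq hS hSna h.as (by tauto) hF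
    · omega
  · rw [hq] at hg
    rcases hg with h1 | h1 | h1 | h1 | ⟨h4, -⟩
    · exact H946.DK.P3.not_fac_three hq hS hSna h.as (by tauto) hF
    · exact H946.DK.P3.not_fac_three hq hS hSna h.as (by tauto) hF
    · exact H946.DK.P3.not_fac_three hq hS hSna h.as (by tauto) hF
    · exact H946.DK.P3.not_fac_three hq hS hSna h.as (by right; right; right; right; right; right; exact h1) hF
    · omega

end Cfsg.Agent.H899.Asm
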