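import Cfsg.Agent.H899.Asm.Sp
import Cfsg.Agent.H899.Asm.Odd
import Cfsg.Agent.H899.Asm.Plus
import Cfsg.Agent.H354.Fac.RowSp
import Cfsg.Agent.H354.Fac.RowO
import Cfsg.Agent.H354.Fac.RowO8

/-!
# The three rows with special maximal subgroups, complete (helper899, S3679)
-/

set_option autoImplicit false

namespace Cfsg.Agent.H899.Asm

open Cfsg Cfsg.Agent.OrdDiv Cfsg.Agent.H899.CG

theorem all_psp (tab : OrderTable.{0}) (hK : H884.Row.KnownS)
    (F : Type) [Field F] [Fintype F] (m : ℕ) (hm : 4 ≤ m) (hme : Even m) : NoFac (PSp m F) := by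
  by_cases hexc : Fintype.card F = 2 ∧ (m = 4 ∨ m = 6)
  · obtain ⟨h2, rfl | rfl⟩ := hexc
    · exact noFac_psp42 tab hK h2
    · exact H354.Fac.noFac_psp62 tab hK F h2
  · exact noFac_psp tab hK hm hme hexc

theorem all_oplus (tab : OrderTable.{0}) (hK : H884.Row.KnownS)
    (F : Type) [Field F] [Fintype F] (m : ℕ) (hm : 4 ≤ m) (hme : Even m) : NoFac (POmega F (quadFormPlus m F)) := by
  have hq : 2 ≤ Fintype.card F := Fintype.one_lt_card
  by_cases h6 : 6 ≤ m
  · by_cases hexc : Fintype.card F = 2 ∧ m = 6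
    · obtain ⟨h2, rfl⟩ := hexc
      exact H354.Fac.noFac_pom62 tab hK F h2
    · exact noFac_oplus tab hK h6 hme hexc
  · obtain rfl : m = 4 := by
      obtain ⟨k, hk⟩ := hme
      omega
    by_cases h4 : 4 ≤ Fintype.card F
    · exact noFac_oplus_four tab hK h4
    · by_cases h3 : Fintype.card F = 3
      · exact noFac_oplus_three tab hK h3
      · exact H354.Fac.OE.noFac_pom42 tab hK F (by omega)

end Cfsg.Agent.H899.Asm
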