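import Cfsg.Agent.H899.Pt.RowSp
import Cfsg.Agent.H427.Fc.SmD
import Cfsg.Agent.H884.RowAllD
import Cfsg.Agent.H946.DK.Sp8

/-!
# `NoFac (PSp_2m(q))`, `m ≥ 4` even, not `Sp_8(2)`, `Sp_12(2)` (helper899, S3679)
-/

set_option autoImplicit false

namespace Cfsg.Agent.H899.Asm

open Cfsg Cfsg.Agent.OrdDiv Cfsg.Agent.H899.CG

theorem noFac_psp (tab : OrderTable.{0}) (hK : H884.Row.KnownS) {F : Type} [Field F] [Fintype F] {m : ℕ} (hm : 4 ≤ m)
    (hme : Even m) (hexc : ¬ (Fintype.card F = 2 ∧ (m = 4 ∨ m = 6))) : NoFac (PSp m F) := by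
  intro S _ _ hS hSna A M l hM hF
  rcases H884.Row.row_psp tab hK (m := m) (by omega) (fun h => by omega) hM.1 with h | ⟨-, he, Q, -, -, hQ, hpol, hle⟩ |
    ⟨-, h⟩
  · exact hF.not_iGap h
  · exact H427.Fc.not_fac_spm hm hme he (fun h => hexc ⟨h.1, Or.inr h.2⟩) hS hSna hQ hpol hle hF
  · exact Pt.not_fac_psp_as hm hme hexc hS hSna h.as hF

/-- `Sp_8(2)` -/
theorem noFac_psp42 (tab : OrderTable.{0}) (hK : H884.Row.KnownS) {F : Type} [Field F] [Fintype F]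
    (h2 : Fintype.card F = 2) : NoFac (PSp 4 F) := by
  intro S _ _ hS hSna A M l hM hF
  rcases H884.Row.row_psp tab hK (m := 4) (by omega) (fun h => by omega) hM.1 with h | ⟨-, he, Q, -, -, hQ, hpol, hle⟩ |
    ⟨-, h⟩
  · exact hF.not_iGap h
  · exact H427.Fc.not_fac_spm le_rfl (by decide) he (fun h => by omega) hS hSna hQ hpol hle hF
  · have h1 := h.as
    rw [h2] at h1
    exact H946.DK.not_fac_sp8 h2 hS hSna h1 hF

end Cfsg.Agent.H899.Asm
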